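/-
There is no module of the alternating group of degree nine in characteristic two in which no
nonsolvable subgroup fixes a nonzero vector.
-/
import Cfsg.Agent.Lib.AltCentraliser.Two.T
import Cfsg.Agent.Lib.AltCentraliser.Enum
import Mathlib.Algebra.Field.ZMod
import Mathlib.FieldTheory.Finiteness

set_option autoImplicit false
set_option linter.style.haveILetI false
set_option maxRecDepth 100000

namespace Cfsg.Agent.AltCent.Two

theorem checkGroup_true : T.mono.checkGroup 9 T.tbl = true := by decide +kernel

theorem checkTwo_true : T.mono.checkTwo 9 T.tbl 6 = true := by decide +kernel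

theorem S_false : T.mono.S.all (fun s => !s.2) = true := by decide +kernel

theorem finrank_eq_zero [Fact (Nat.Prime 2)] {V : Type*} [AddCommGroup V] [Module (ZMod 2) V]
    [FiniteDimensional (ZMod 2) V] {ρ : Representation (ZMod 2) ↥(alternatingGroup (Fin 9)) V}
    (hρ : NoFix ρ) : Module.finrank (ZMod 2) V = 0 := by
  classical
  by_contra hne
  haveI : Finite V := Module.finite_of_finite (ZMod 2)
  haveI : Nontrivial V := Module.nontrivial_of_finrank_pos (R := ZMod 2) (Nat.pos_of_ne_zero hne)
  have hP := T.mono.isPGroup_two (by norm_num) T.htbl checkGroup_true checkTwo_true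
  letI : MulAction ↥(T.mono.group T.gd) V :=
    { smul := fun g v => ρ (g : ↥(alternatingGroup (Fin 9))) v
      one_smul := fun v => by
        show ρ ((1 : ↥(T.mono.group T.gd)) : ↥(alternatingGroup (Fin 9))) v = v
        simp
      mul_smul := fun g h v => by
        show ρ ((g * h : ↥(T.mono.group T.gd)) : ↥(alternatingGroup (Fin 9))) v =
          ρ g (ρ h v)
        simp }
  have h0 : (0 : V) ∈ MulAction.fixedPoints ↥(T.mono.group T.gd) V := fun g => map_zero (ρ g)
  have hdvd : 2 ∣ Nat.card V := by
    rw [Module.natCard_eq_pow_finrank (K := ZMod 2), Nat.card_zmod]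
    exact dvd_pow_self 2 hne
  obtain ⟨v, hv, hv0⟩ := hP.exists_fixed_point_of_prime_dvd_card_of_fixed_point V hdvd h0
  refine hv0 (T.kill hρ fun s hs => ?_).symm
  have h1 := List.all_eq_true.1 S_false s hs
  simp only [Bool.not_eq_true'] at h1
  rw [h1]
  exact hv ⟨elemW T.gd s.1, Subgroup.subset_closure ⟨s, hs, rfl⟩⟩

end Cfsg.Agent.AltCent.Two
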